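import Cfsg.Agent.Lib.UFourType.Basic
import Cfsg.Agent.Lib.UFourType.Cert.Data.Words
import Cfsg.Agent.Lib.CodeCert.Check

/-!
The two groups of codes of the certificates: the centraliser, and its meet with the normaliser.
-/

set_option autoImplicit false
set_option maxRecDepth 100000

namespace CfsgLib.UFourType.Cert

open CfsgLib.CodeCert

/-- The word of a code. -/
def hWord (c : ℕ) : List ℕ := (hWordT.getD (c / 64) []).getD (c % 64) []

/-- The word of a code of the meet. -/
def kWord (c : ℕ) : List ℕ := (kWordT.getD (c / 64) []).getD (c % 64) []

/-- The code in the centraliser of a code of the meet. -/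
def kc (i : ℕ) : ℕ := i % 32 + 32 * kReps.getD (i / 32) 0

/-- The code in the meet of a code of the centraliser. -/
def kIdx (c : ℕ) : ℕ := c % 32 + 32 * kReps.idxOf (c / 32)

/-- The product in the meet. -/
def kMul (a b : ℕ) : ℕ := kIdx (uMul (kc a) (kc b))

/-- A word as letters. -/
def tokW (w : List ℕ) : List Tok := w.map fun a => if a < 1152 then .c a else .s (a - 1153)

/-- A word as letters of the meet. -/
def kTokW (w : List ℕ) : List Tok := w.map fun a => if a < 1152 then .c (kIdx a) else .s (a - 1153)

end CfsgLib.UFourType.Cert
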