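import Cfsg.Agent.Lib.UFourType.Cert.Alg
import Cfsg.Agent.Lib.UFourType.Cert.Data.Central

/-!
The checks of a certificate.
-/

set_option autoImplicit false
set_option maxRecDepth 100000
set_option Elab.async false

namespace CfsgLib.UFourType.Cert.Central

open CfsgLib.CodeCert

/-- The certificate. -/
def D : Data := data 1152 uMul hWord

theorem facts_ok : factsOk D = true := by decide +kernel

end CfsgLib.UFourType.Cert.Central
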