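import Cfsg.Agent.Lib.UFourType.Cert.Rules
import Cfsg.Agent.Lib.UFourType.Cert.CentralCheck
import Cfsg.Agent.Lib.UFourType.Cert.CollapseCheck
import Cfsg.Agent.Lib.UFourType.Cert.FullCheck
import Cfsg.Agent.Lib.CodeCert.Kill

/-!
The subgroup generated by the coded centraliser and the element of order three has at most 2835 cosets of the
centraliser, and every model of that order maps onto it.
-/

set_option autoImplicit false
set_option maxRecDepth 100000

namespace CfsgLib.UFourType.Cert

open CfsgLib.CodeCert

theorem central_pairs :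
    (pEval Central.D Central.D.facts.length 265 [1293, 1295]).map Prod.fst = some 1 ∧
      (pEval Central.D Central.D.facts.length 265 [1293, 1295]).map Prod.snd = some 1 ∧
      (pEval Central.D Central.D.facts.length 265 [1293, 1298, 1294, 1295, 1296]).map Prod.fst = some 545 ∧
      (pEval Central.D Central.D.facts.length 265 [1293, 1322, 1297, 1322]).map Prod.fst = some 204 := by
  decide +kernel

/-- The images of the two generators at the central node. -/
def centralImg : ℕ × ℕ :=
  (((pEval Central.D Central.D.facts.length 265 [1293, 1298, 1294, 1295, 1296]).map Prod.snd).getD 0,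
    ((pEval Central.D Central.D.facts.length 265 [1293, 1322, 1297, 1322]).map Prod.snd).getD 0)

/-- Pass the value of a number on. -/
def frN0 (n : ℕ) (k : ℕ → Bool) : Bool :=
  match n with
  | 0 => k 0
  | m + 1 => k (m + 1)

theorem central_cand : ((List.range 1152).all fun h => frN0 centralImg.1 fun a => frN0 centralImg.2 fun b =>
    !(Nat.beq (uMul 545 h) (uMul h a) && Nat.beq (uMul 204 h) (uMul h b)) || Nat.beq h 684 || Nat.beq h 685) = true := by
  decide +kernel

theorem central_chain : (chainOk Central.D.defs 60 265 &&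
    decide (Collapse.D.rels = baseRels ++ [(chainW Central.D.defs 60 265).filter (fun x => !decide (x = Tok.c 0)) ++ [.c 220]]) &&
    decide (Full.D.rels = baseRels ++ [(chainW Central.D.defs 60 265).filter (fun x => !decide (x = Tok.c 0)) ++ [.c 221]]) &&
    decide (Central.D.rels = baseRels)) = true := by decide +kernel

theorem dgens_checks : (((Central.D.dgens.getD 0 []).all fun x => psiT.any fun p => Nat.beq p.1 x.2 && Nat.beq p.2 x.1) &&
    ((Collapse.D.dgens.getD 0 []).all fun x => psiT.any fun p => Nat.beq p.1 x.2 && Nat.beq p.2 x.1) &&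
    ((Full.D.dgens.getD 0 []).all fun x => psiT.any fun p => Nat.beq p.1 x.2 && Nat.beq p.2 x.1)) = true := by
  decide +kernel

theorem central_dgens : ∀ k < Central.D.K, ∀ x ∈ Central.D.dgens.getD k [], x.1 < Central.D.N ∧ x.2 < Central.D.N :=
  dgens_bound (by decide +kernel)

theorem collapse_kill : killOk Collapse.D 29 [186, 185] [185, 186] = true := by decide +kernel

variable {G : Type*} [Group G] {z : G} {el : ℕ → G} {s : G}

/-- The full system holds. -/
theorem sysFull (C : Code z el) (S : Cyc el s) (hcom : evW el s relCom = 1) :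
    CodeCert.Sys Full.D el (fun _ => s) := by
  have hc := central_chain
  simp only [Bool.and_eq_true, decide_eq_true_eq] at hc
  obtain ⟨⟨⟨hch, hB⟩, hF⟩, hA⟩ := hc
  have hd := dgens_checks
  simp only [Bool.and_eq_true] at hd
  have SA : CodeCert.Sys Central.D el (fun _ => s) :=
    mkSys C S Central.D rfl rfl rfl hd.1.1 fun w hw => baseRels_eval C S hcom _ rfl w (hA ▸ hw)
  have H := SA.upto_all central_dgens Central.facts_ok
  set g := gEl Central.D el (fun _ => s) 265 with hg
  have pair : ∀ {w : List ℕ} {p q : ℕ}, (pEval Central.D Central.D.facts.length 265 w).map Prod.fst = some p →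
      (pEval Central.D Central.D.facts.length 265 w).map Prod.snd = some q →
      el p * g = g * el q ∧ q < 1152 := by
    intro w p q h1 h2
    obtain ⟨⟨p', q'⟩, hpq, rfl⟩ := Option.map_eq_some_iff.1 h1
    rw [hpq] at h2
    obtain ⟨-, hq, e⟩ := SA.pEval_spec H 265 w p' q' hpq
    simp only [Option.map_some, Option.some.injEq] at h2
    subst h2
    exact ⟨e, hq⟩
  obtain ⟨h1, h1', h5, h2⟩ := central_pairs
  obtain ⟨ez, -⟩ := pair h1 h1'
  have get : ∀ {w : List ℕ} {p : ℕ}, (pEval Central.D Central.D.facts.length 265 w).map Prod.fst = some p →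
      el p * g = g * el (((pEval Central.D Central.D.facts.length 265 w).map Prod.snd).getD 0) ∧
        ((pEval Central.D Central.D.facts.length 265 w).map Prod.snd).getD 0 < 1152 := by
    intro w p h
    obtain ⟨⟨p', q'⟩, hpq, -⟩ := Option.map_eq_some_iff.1 h
    exact pair h (by rw [hpq]; rfl)
  obtain ⟨e5, b5⟩ := get h5
  obtain ⟨e2, b2⟩ := get h2
  have hzg : g ∈ Subgroup.centralizer ({z} : Set G) := by
    rw [Subgroup.mem_centralizer_singleton_iff, ← C.z_eq]
    exact ez.symm
  obtain ⟨h, hh, eh⟩ := C.surj g hzg
  have comm : ∀ p q : ℕ, p < 1152 → q < 1152 → el p * g = g * el q → uMul p h = uMul h q := by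
    intro p q hp hq e
    refine C.inj _ _ (C.mul _ _ hp hh).1 (C.mul _ _ hh hq).1 ?_
    rw [← (C.mul _ _ hp hh).2, ← (C.mul _ _ hh hq).2, eh, e]
  have hcand := List.all_eq_true.1 central_cand h (List.mem_range.2 hh)
  have frc_eq : ∀ (n : ℕ) (k : ℕ → Bool), frN0 n k = k n := fun n k => by cases n <;> rfl
  simp only [frc_eq, centralImg, Bool.or_eq_true, Bool.not_eq_true', Bool.and_eq_false_iff] at hcand
  have hgw : ∀ hi, hi < 1152 → uMul h hi = 0 →
      wEval Full.D el (fun _ => s) ((chainW Central.D.defs 60 265).filter (fun x => !decide (x = Tok.c 0)) ++ [.c hi]) = 1 := by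
    intro hi hlt he
    rw [wEval_append, wEval_filter _ _ _ C.one]
    have e : wEval Full.D el (fun _ => s) (chainW Central.D.defs 60 265) = g := by
      rw [hg, gEl_chain Central.D el (fun _ => s) 60 265 hch]
      rfl
    rw [e, ← eh]
    simp [wEval, tokEl, (C.mul _ _ hh hlt).2, he, C.one]
  rcases hcand with (hcand | hcand) | hcand
  · exfalso
    rcases hcand with hcand | hcand
    · rw [comm 545 _ (by norm_num) b5 e5] at hcand; simp at hcand
    · rw [comm 204 _ (by norm_num) b2 e2] at hcand; simp at hcand
  · exfalso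
    obtain rfl := beq_true hcand
    have SB : CodeCert.Sys Collapse.D el (fun _ => s) := mkSys C S Collapse.D rfl rfl rfl hd.1.2 fun w hw => by
      rw [hB] at hw
      rcases List.mem_append.1 hw with hw | hw
      · exact baseRels_eval C S hcom _ rfl w hw
      · obtain rfl := List.mem_singleton.1 hw
        exact hgw 220 (by norm_num) (by decide +kernel)
    exact SB.false_of_killOk collapse_kill
  · obtain rfl := beq_true hcand
    exact mkSys C S Full.D rfl rfl rfl hd.2 fun w hw => by
      rw [hF] at hw
      rcases List.mem_append.1 hw with hw | hw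
      · exact baseRels_eval C S hcom _ rfl w hw
      · obtain rfl := List.mem_singleton.1 hw
        exact hgw 221 (by norm_num) (by decide +kernel)

omit [Group G] in
theorem gens_set (el : ℕ → G) (s : G) :
    CodeCert.Sys.gensSet Full.D el (fun _ => s) = el '' Set.Iio 1152 ∪ {s} := by
  unfold CodeCert.Sys.gensSet
  congr 1
  ext g
  simp only [Set.mem_image, Set.mem_singleton_iff]
  constructor
  · rintro ⟨k, -, rfl⟩; rfl
  · rintro rfl; exact ⟨0, show 0 < 1 by norm_num, rfl⟩

theorem full_n : Full.D.n = 2835 := by decide +kernel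

/-- The bound on the order of the generated subgroup. -/
theorem card_closure_le (C : Code z el) (S : Cyc el s) (hcom : evW el s relCom = 1) :
    Finite ↥(Subgroup.closure (el '' Set.Iio 1152 ∪ {s})) ∧
      Nat.card ↥(Subgroup.closure (el '' Set.Iio 1152 ∪ {s})) ≤ 2835 * 1152 := by
  have h := (sysFull C S hcom).card_closure_le Full.facts_ok Full.end_ok
  rw [gens_set, full_n] at h
  exact h

/-- A model of order 3265920 maps onto every such system. -/
theorem exists_hom {M : Type*} [Group M] [Finite M] {z' : M} {el' : ℕ → M} {s' : M} (C : Code z el) (S : Cyc el s)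
    (hcom : evW el s relCom = 1) (C' : Code z' el') (S' : Cyc el' s') (hcom' : evW el' s' relCom = 1)
    (hgen : Subgroup.closure (el' '' Set.Iio 1152 ∪ {s'}) = ⊤) (hcard : Nat.card M = 2835 * 1152) :
    ∃ φ : M →* G, (∀ c < 1152, φ (el' c) = el c) ∧ φ s' = s ∧
      φ.range = Subgroup.closure (el '' Set.Iio 1152 ∪ {s}) := by
  obtain ⟨φ, h1, h2, h3⟩ := CodeCert.exists_hom Full.facts_ok Full.end_ok (sysFull C S hcom) (sysFull C' S' hcom')
    (by rw [gens_set, hgen]) (by rw [full_n, hcard]; rfl)
  exact ⟨φ, h1, h2 0 (show 0 < 1 by norm_num), h3.trans (by rw [gens_set])⟩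

end CfsgLib.UFourType.Cert
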