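import Cfsg.Agent.Lib.UFourType.Cert.Rules
import Cfsg.Agent.Lib.UFourType.Cert.LocalCheck

/-!
The normaliser of the elementary subgroup: fifteen cosets of the meet, and facts about the element `mEl`.
-/

set_option autoImplicit false
set_option maxRecDepth 100000

namespace CfsgLib.UFourType.Cert.Local

open CfsgLib.CodeCert

/-- The inverse word of `mWord`. -/
def mInv : List ℕ := [5, 1153, 224, 1154]

theorem cube_trace : traceOk D [.code 5, .ext 1 11 [1, 2, 0, 3] [], .merge 38, .code 96, .ext 0 12 [0, 2, 1] [4], .code 5, .ext 1 13 [1, 1, 3] [], .code 96, .ext 0 12 [1, 1] [4, 5], .code 5, .ext 1 13 [0, 2, 1, 3] [], .code 96, .ext 0 30 [1, 1, 2] [], .merge 41]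
    (kTokW (mWord ++ mWord ++ mWord)) (kIdx 0) = true := by decide +kernel

theorem inv_trace : traceOk D [.ext 1 11 [] [], .merge 38, .code 64, .ext 0 12 [0, 3, 1] [5], .code 5, .code 5, .ext 1 13 [0, 3, 1] [], .code 96, .ext 0 30 [2] [], .merge 41]
    (kTokW (mWord ++ mInv)) (kIdx 0) = true := by decide +kernel

theorem comm_trace : traceOk D [.code 200, .ext 1 11 [0, 1, 1, 2] [1], .merge 38, .code 64, .ext 0 12 [0, 1, 2, 3] [], .code 5, .code 364, .code 5, .ext 1 13 [1, 2, 0, 3] [42, 42], .code 96, .ext 0 30 [] [], .merge 41]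
    (kTokW (mWord ++ [1132] ++ mInv ++ [712])) (kIdx 0) = true := by decide +kernel

theorem conj1_trace : traceOk D [.code 5, .ext 1 11 [1, 2, 0, 3] [], .merge 38, .code 96, .ext 0 12 [0, 2, 1] [4], .code 1, .ext 1 13 [1, 2, 0] [], .code 64, .ext 0 30 [3, 2] [], .merge 41, .code 5]
    (kTokW (mInv ++ [1] ++ mWord)) (kIdx 966) = true := by decide +kernel

theorem conj966_trace : traceOk D [.code 5, .ext 1 11 [1, 2, 0, 3] [], .merge 38, .code 96, .ext 0 12 [0, 2, 1] [4], .code 294, .ext 1 13 [0, 0, 0, 1] [], .code 64, .ext 0 30 [2, 3] [], .merge 41, .code 5]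
    (kTokW (mInv ++ [966] ++ mWord)) (kIdx 967) = true := by decide +kernel

theorem conj967_trace : traceOk D [.code 5, .ext 1 11 [1, 2, 0, 3] [], .merge 38, .code 96, .ext 0 12 [0, 2, 1] [4], .code 295, .ext 1 13 [0, 2, 1, 2] [], .code 64, .ext 0 30 [3] [], .merge 41, .code 5]
    (kTokW (mInv ++ [967] ++ mWord)) (kIdx 1) = true := by decide +kernel

/-- The inverse word of `s * el 24`. -/
def gInv : List ℕ := [24, 1154]

/-- The conjugate of `el 1132` by `s * el 24`. -/
def bWord : List ℕ := gInv ++ [1132] ++ [1153, 24]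

/-- Its inverse. -/
def bInv : List ℕ := gInv ++ [712] ++ [1153, 24]

theorem flip1_trace : traceOk D [.code 24, .ext 0 2 [1, 2] [0], .code 200, .ext 1 28 [0, 0, 2] [], .merge 37, .code 24, .code 200, .code 24, .ext 0 22 [0, 3, 2] [42, 42], .merge 38, .code 364, .ext 1 3 [0, 1, 2, 3] [], .code 24, .code 364]
    (kTokW ([1132] ++ bWord ++ [712] ++ bInv)) (kIdx 0) = true := by decide +kernel

theorem flip2_trace : traceOk D [.code 24, .ext 0 2 [1, 2] [0], .code 24, .ext 0 30 [1, 3, 0] [], .merge 41, .code 364, .ext 1 11 [1, 1, 3] [0, 1], .merge 38, .code 24, .ext 1 3 [3] [], .code 24]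
    (kTokW (gInv ++ bWord ++ [1153, 24])) (kIdx 712) = true := by decide +kernel

theorem k_closed : (kReps.all fun l => kReps.all fun l' => kReps.contains (uGet mTab 11 l l' / 32)) = true := by
  decide +kernel

theorem kReps_lt : (kReps.all fun l => Nat.blt l 36) = true := by decide +kernel

theorem kIdx_get : ((List.range 12).all fun i => Nat.beq (kReps.idxOf (kReps.getD i 0)) i) = true := by decide +kernel

theorem kc_mem : ((List.range 384).all fun i => kCodes.contains (kc i)) = true := by decide +kernel

theorem kCodes_kc : (kCodes.all fun c => Nat.blt (kIdx c) 384 && Nat.beq (kc (kIdx c)) c) = true := by decide +kernel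

theorem dgens_check : ((D.dgens.getD 0 []).all fun x => psiT.any fun p => Nat.beq p.1 (kc x.2) && Nat.beq p.2 (kc x.1))
    = true := by decide +kernel

theorem rels_check : D.rels = [kTokW [1153, 1153, 1153], kTokW relOne, kTokW relTwo, kTokW [1154, 1153],
    kTokW [1153, 1154]] := by decide +kernel

theorem kc_lt {i : ℕ} (hi : i < 384) : kc i < 1152 := by
  have h2 : i / 32 < kReps.length := by show i / 32 < 12; omega
  have := List.all_eq_true.1 kReps_lt _ (List.getElem_mem h2)
  simp only [Nat.blt_eq] at this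
  simp only [kc, List.getD_eq_getElem _ _ h2]
  omega

variable {G : Type*} [Group G] {z : G} {el : ℕ → G} {s : G}

theorem kc_mul (C : Code z el) {a b : ℕ} (ha : a < 384) (hb : b < 384) :
    kMul a b < 384 ∧ el (kc a) * el (kc b) = el (kc (kMul a b)) := by
  obtain ⟨h1, h2⟩ := C.mul _ _ (kc_lt ha) (kc_lt hb)
  set m := uMul (kc a) (kc b) with hm
  have ea : kc a / 32 = kReps.getD (a / 32) 0 := by simp only [kc]; omega
  have eb : kc b / 32 = kReps.getD (b / 32) 0 := by simp only [kc]; omega
  have hq : ∀ v w, uQ v w < 32 := fun v w => Nat.mod_lt _ (by norm_num)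
  have hdiv : m / 32 = uGet mTab 11 (kc a / 32) (kc b / 32) / 32 := by
    have := hq (uQ (kc a % 32) (uGet aTab 5 (kc a / 32) (kc b % 32))) (uGet mTab 11 (kc a / 32) (kc b / 32) % 32)
    rw [hm, uMul]; omega
  have hla : a / 32 < kReps.length := by show a / 32 < 12; omega
  have hlb : b / 32 < kReps.length := by show b / 32 < 12; omega
  have hmem : m / 32 ∈ kReps := by
    rw [hdiv, ea, eb, List.getD_eq_getElem _ _ hla, List.getD_eq_getElem _ _ hlb]
    exact List.contains_iff_mem.1
      (List.all_eq_true.1 (List.all_eq_true.1 k_closed _ (List.getElem_mem hla)) _ (List.getElem_mem hlb))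
  have hi : kReps.idxOf (m / 32) < 12 := List.idxOf_lt_length_of_mem hmem
  have e : kc (kMul a b) = m := by
    rw [kMul, ← hm, kIdx, kc]
    have e1 : (m % 32 + 32 * kReps.idxOf (m / 32)) / 32 = kReps.idxOf (m / 32) := by omega
    rw [e1, List.getD_eq_getElem _ _ (List.idxOf_lt_length_of_mem hmem), List.getElem_idxOf]
    omega
  refine ⟨?_, by rw [h2, e]⟩
  rw [kMul, ← hm, kIdx]
  omega

/-- The system over the meet. -/
theorem sys (C : Code z el) (S : Cyc el s) : CodeCert.Sys D (fun i => el (kc i)) (fun _ => s) where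
  pos := by show 0 < 384; norm_num
  mul0 := by decide +kernel
  mul c d hc hd := (kc_mul C hc hd).2
  lt c d hc hd := (kc_mul C hc hd).1
  inj c d hc hd h := by
    change c < 384 at hc
    change d < 384 at hd
    have e := C.inj _ _ (kc_lt hc) (kc_lt hd) h
    simp only [kc] at e
    have hc' := beq_true (List.all_eq_true.1 kIdx_get (c / 32) (List.mem_range.2 (by omega)))
    have hd' := beq_true (List.all_eq_true.1 kIdx_get (d / 32) (List.mem_range.2 (by omega)))
    have e1 : kReps.getD (c / 32) 0 = kReps.getD (d / 32) 0 := by omega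
    rw [e1, hd'] at hc'
    omega
  conj k hk x hx := by
    change k < 1 at hk
    obtain rfl : k = 0 := by omega
    obtain ⟨p, hp, e⟩ := List.any_eq_true.1 (List.all_eq_true.1 dgens_check x hx)
    simp only [Bool.and_eq_true] at e
    simp only [← beq_true e.1, ← beq_true e.2]
    exact (S.tab p hp).symm
  rel := by
    intro w hw
    rw [rels_check] at hw
    simp only [List.mem_cons, List.not_mem_nil, or_false] at hw
    rcases hw with rfl | rfl | rfl | rfl | rfl <;>
      rw [kTokW_eval D rfl S.cube (by decide +kernel) (by decide +kernel)]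
    · have := S.cube; simp only [pow_succ, pow_zero, one_mul] at this; simpa [evW, evL, mul_assoc] using this
    · exact S.rel_one
    · exact S.rel_two
    · simp [evW, evL, sq_eq_inv S.cube]
    · simp [evW, evL, sq_eq_inv S.cube]

/-- The subgroup of the meet and `s` has at most fifteen cosets. -/
theorem card_closure_le (C : Code z el) (S : Cyc el s) :
    Finite ↥(Subgroup.closure (el '' {c | c ∈ kCodes} ∪ {s})) ∧
      Nat.card ↥(Subgroup.closure (el '' {c | c ∈ kCodes} ∪ {s})) ≤ 15 * 384 := by
  have h := (sys C S).card_closure_le facts_ok end_ok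
  have e : CodeCert.Sys.gensSet D (fun i => el (kc i)) (fun _ => s) = el '' {c | c ∈ kCodes} ∪ {s} := by
    unfold CodeCert.Sys.gensSet
    congr 1
    · ext g
      constructor
      · rintro ⟨i, hi, rfl⟩
        change i < 384 at hi
        exact ⟨kc i, List.contains_iff_mem.1 (List.all_eq_true.1 kc_mem i (List.mem_range.2 hi)), rfl⟩
      · rintro ⟨c, hc, rfl⟩
        have := List.all_eq_true.1 kCodes_kc c hc
        simp only [Bool.and_eq_true, Nat.blt_eq] at this
        exact ⟨kIdx c, this.1, by simp only [beq_true this.2]⟩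
    · ext g
      simp only [Set.mem_image, Set.mem_singleton_iff]
      constructor
      · rintro ⟨k, -, rfl⟩; rfl
      · rintro rfl; exact ⟨0, show 0 < 1 by norm_num, rfl⟩
  rw [e] at h
  exact h

theorem dgens_lt' : ∀ k < D.K, ∀ x ∈ D.dgens.getD k [], x.1 < D.N ∧ x.2 < D.N :=
  dgens_bound (by decide +kernel)

/-- The element of the word. -/
theorem mEl_facts (C : Code z el) (S : Cyc el s) :
    Commute (mEl el s) (el aC) ∧ mEl el s ^ 3 = 1 ∧ (mEl el s)⁻¹ * el zC * mEl el s = el zaC ∧
      (mEl el s)⁻¹ * el zaC * mEl el s = el 967 ∧ (mEl el s)⁻¹ * el 967 * mEl el s = el zC := by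
  have key : ∀ {ops : List Op} {w : List ℕ} {k : ℕ}, traceOk D ops (kTokW w) (kIdx k) = true →
      (wOk w && w.all (fun a => Nat.blt 1152 a || Nat.beq (kc (kIdx a)) a) && Nat.beq (kc (kIdx k)) k) = true →
      evW el s w = el k := by
    intro ops w k h hw
    simp only [Bool.and_eq_true] at hw
    have e := trace_eval (sys C S) facts_ok dgens_lt' h
    rw [kTokW_eval D rfl S.cube hw.1.1 hw.1.2, beq_true hw.2] at e
    exact e
  have app : ∀ u v, evW el s (u ++ v) = evW el s u * evW el s v := fun u v => by simp [evW]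
  have one' : ∀ c, c < 1152 → evW el s [c] = el c := fun c hc => by simp [evW, evL, hc]
  have hinv : evW el s mInv = (mEl el s)⁻¹ := by
    refine eq_inv_of_mul_eq_one_right ?_
    rw [mEl, ← app, key inv_trace (by decide +kernel), C.one]
  have hcj : ∀ {ops : List Op} {c k : ℕ}, traceOk D ops (kTokW (mInv ++ [c] ++ mWord)) (kIdx k) = true →
      (wOk (mInv ++ [c] ++ mWord) && (mInv ++ [c] ++ mWord).all (fun a => Nat.blt 1152 a || Nat.beq (kc (kIdx a)) a)
        && Nat.beq (kc (kIdx k)) k) = true → c < 1152 → (mEl el s)⁻¹ * el c * mEl el s = el k := by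
    intro ops c k h hw hc
    rw [← key h hw, app, app, one' c hc, hinv]; rfl
  refine ⟨?_, ?_, hcj conj1_trace (by decide +kernel) (by norm_num [zC]), hcj conj966_trace (by decide +kernel)
    (by norm_num [zaC]), hcj conj967_trace (by decide +kernel) (by norm_num)⟩
  · have h := key comm_trace (by decide +kernel)
    rw [app, app, app, hinv, one' 1132 (by norm_num), one' 712 (by norm_num), C.one] at h
    have hh : el 1132 * el 712 = 1 := by
      rw [(C.mul 1132 712 (by norm_num) (by norm_num)).2, show uMul 1132 712 = 0 by decide +kernel, C.one]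
    have h712 : el 712 = (el 1132)⁻¹ := eq_inv_of_mul_eq_one_right hh
    rw [h712] at h
    show mEl el s * el aC = el aC * mEl el s
    calc mEl el s * el aC = (evW el s mWord * el 1132 * (mEl el s)⁻¹ * (el 1132)⁻¹) * el aC * mEl el s := by
          simp only [mEl, aC]; group
      _ = el aC * mEl el s := by rw [h, one_mul]
  · rw [pow_succ, pow_two, mEl, ← app, ← app, key cube_trace (by decide +kernel), C.one]

/-- The element `g = s * el 24`: `el aC` commutes with its conjugate by `g`, whose conjugate is `el 712`. -/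
theorem flip_facts (C : Code z el) (S : Cyc el s) :
    Commute (el aC) ((s * el 24)⁻¹ * el aC * (s * el 24)) ∧
      (s * el 24)⁻¹ * ((s * el 24)⁻¹ * el aC * (s * el 24)) * (s * el 24) = el 712 := by
  have key : ∀ {ops : List Op} {w : List ℕ} {k : ℕ}, traceOk D ops (kTokW w) (kIdx k) = true →
      (wOk w && w.all (fun a => Nat.blt 1152 a || Nat.beq (kc (kIdx a)) a) && Nat.beq (kc (kIdx k)) k) = true →
      evW el s w = el k := by
    intro ops w k h hw
    simp only [Bool.and_eq_true] at hw
    have e := trace_eval (sys C S) facts_ok dgens_lt' h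
    rw [kTokW_eval D rfl S.cube hw.1.1 hw.1.2, beq_true hw.2] at e
    exact e
  have app : ∀ u v, evW el s (u ++ v) = evW el s u * evW el s v := fun u v => by simp [evW]
  have one' : ∀ c, c < 1152 → evW el s [c] = el c := fun c hc => by simp [evW, evL, hc]
  have hg : evW el s [1153, 24] = s * el 24 := by simp [evW, evL]
  have h24 : el 24 * el 24 = 1 := by
    rw [(C.mul 24 24 (by norm_num) (by norm_num)).2, show uMul 24 24 = 0 by decide +kernel, C.one]
  have hgi : evW el s gInv = (s * el 24)⁻¹ := by
    rw [mul_inv_rev, inv_eq_of_mul_eq_one_right h24]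
    simp [gInv, evW, evL, sq_eq_inv S.cube]
  have h712 : el 712 = (el 1132)⁻¹ := eq_inv_of_mul_eq_one_right (by
    rw [(C.mul 1132 712 (by norm_num) (by norm_num)).2, show uMul 1132 712 = 0 by decide +kernel, C.one])
  have hb : evW el s bWord = (s * el 24)⁻¹ * el aC * (s * el 24) := by
    rw [bWord, app, app, hgi, one' 1132 (by norm_num), hg]; rfl
  have hbi : evW el s bInv = ((s * el 24)⁻¹ * el aC * (s * el 24))⁻¹ := by
    rw [bInv, app, app, hgi, one' 712 (by norm_num), hg, h712]
    simp only [aC]; group
  constructor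
  · have h := key flip1_trace (by decide +kernel)
    rw [app, app, app, hb, hbi, one' 1132 (by norm_num), one' 712 (by norm_num), C.one, h712] at h
    exact commutatorElement_eq_one_iff_commute.1 h
  · have h := key flip2_trace (by decide +kernel)
    rw [app, app, hgi, hb, hg] at h
    exact h

end CfsgLib.UFourType.Cert.Local
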