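import Cfsg.Agent.Lib.UFourType.Cert.Alg
import Cfsg.Agent.Lib.CodeCert.Iso
import Cfsg.Agent.Lib.CodeCert.Rels

/-!
The rules of the coded centraliser as systems for the certificates.
-/

set_option autoImplicit false
set_option maxRecDepth 100000

namespace CfsgLib.UFourType.Cert

open CfsgLib.CodeCert

variable {G : Type*} [Group G] {el : ℕ → G} {s : G}

theorem sq_eq_inv (h3 : s ^ 3 = 1) : s ^ 2 = s⁻¹ := eq_inv_of_mul_eq_one_left (by rw [← pow_succ, h3])

/-- A letter is a code or a power of the extra element. -/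
def wOk (w : List ℕ) : Bool := w.all fun a => Nat.blt a 1155 && a != 1152

theorem tokW_eval (D : Data) (hK : D.K = 1) (h3 : s ^ 3 = 1) {w : List ℕ} (hw : wOk w = true) :
    wEval D el (fun _ => s) (tokW w) = evW el s w := by
  unfold wEval evW tokW
  rw [List.map_map]
  refine congrArg List.prod (List.map_congr_left fun a ha => ?_)
  have h := List.all_eq_true.1 hw a ha
  simp only [Bool.and_eq_true, Nat.blt_eq, bne_iff_ne] at h
  simp only [Function.comp_apply, evL]
  by_cases hc : a < 1152
  · simp [hc, tokEl]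
  · rcases (show a = 1153 ∨ a = 1154 by omega) with rfl | rfl
    · simp [tokEl, sx, hK]
    · simp [tokEl, sx, hK, sq_eq_inv h3]

theorem kTokW_eval (D : Data) (hK : D.K = 1) (h3 : s ^ 3 = 1) {w : List ℕ} (hw : wOk w = true)
    (hk : w.all (fun a => Nat.blt 1152 a || Nat.beq (kc (kIdx a)) a) = true) :
    wEval D (fun i => el (kc i)) (fun _ => s) (kTokW w) = evW el s w := by
  unfold wEval evW kTokW
  rw [List.map_map]
  refine congrArg List.prod (List.map_congr_left fun a ha => ?_)
  have h := List.all_eq_true.1 hw a ha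
  have h' := List.all_eq_true.1 hk a ha
  simp only [Bool.and_eq_true, Nat.blt_eq, bne_iff_ne] at h
  simp only [Bool.or_eq_true, Nat.blt_eq] at h'
  simp only [Function.comp_apply, evL]
  by_cases hc : a < 1152
  · simp [hc, tokEl, Nat.eq_of_beq_eq_true (h'.resolve_left (by omega))]
  · rcases (show a = 1153 ∨ a = 1154 by omega) with rfl | rfl
    · simp [tokEl, sx, hK]
    · simp [tokEl, sx, hK, sq_eq_inv h3]

/-- The word of the element of a node. -/
def chainW (defs : List (ℕ × ℕ × ℕ)) : ℕ → ℕ → List Tok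
  | 0, _ => []
  | fuel + 1, j =>
    if j = 0 then [] else
      .s (defs.getD (j - 1) (0, 0, 0)).1 :: .c (defs.getD (j - 1) (0, 0, 0)).2.1 ::
        chainW defs fuel (defs.getD (j - 1) (0, 0, 0)).2.2

/-- The parents of a node are smaller down to the first one. -/
def chainOk (defs : List (ℕ × ℕ × ℕ)) : ℕ → ℕ → Bool
  | 0, j => j == 0
  | fuel + 1, j =>
    j == 0 || Nat.blt (defs.getD (j - 1) (0, 0, 0)).2.2 j && chainOk defs fuel (defs.getD (j - 1) (0, 0, 0)).2.2

theorem gEl_chain (D : Data) (f : ℕ → G) (σ : ℕ → G) : ∀ fuel j, chainOk D.defs fuel j = true →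
    gEl D f σ j = wEval D f σ (chainW D.defs fuel j) := by
  intro fuel
  induction fuel with
  | zero =>
    intro j h
    simp only [chainOk, beq_iff_eq] at h
    subst h
    simp [gEl, chainW, wEval]
  | succ n ih =>
    intro j h
    by_cases hj : j = 0
    · subst hj; simp [gEl, chainW, wEval]
    · simp only [chainOk, Bool.or_eq_true, beq_iff_eq, hj, false_or, Bool.and_eq_true, Nat.blt_eq] at h
      rw [gEl, if_neg hj, if_pos h.1, ih _ h.2, chainW, if_neg hj]
      simp [wEval, tokEl, mul_assoc]

/-- Leaving out the trivial code does not change a word. -/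
theorem wEval_filter (D : Data) (f : ℕ → G) (σ : ℕ → G) (h1 : f 0 = 1) (w : List Tok) :
    wEval D f σ (w.filter fun x => !decide (x = Tok.c 0)) = wEval D f σ w := by
  induction w with
  | nil => rfl
  | cons x w ih =>
    by_cases hx : x = Tok.c 0
    · subst hx; simp only [wEval] at ih ⊢; simp [tokEl, h1, ih]
    · simp only [wEval] at ih ⊢; simp [hx, ih]

/-- A word traced from the first node back to it. -/
def traceOk (D : Data) (ops : List Op) (w : List Tok) (k : ℕ) : Bool :=
  match run D D.facts.length ops ⟨0, 0, 0⟩ with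
  | some A => stOk D A && Nat.beq A.i 0 && decide (wordOf ops = w) && Nat.beq (D.mul A.c A.q) k
  | none => false

theorem trace_eval {D : Data} {f : ℕ → G} {σ : ℕ → G} (S : Sys D f σ) (hf : factsOk D = true)
    (hd : ∀ k < D.K, ∀ x ∈ D.dgens.getD k [], x.1 < D.N ∧ x.2 < D.N) {ops : List Op} {w : List Tok} {k : ℕ}
    (h : traceOk D ops w k = true) : wEval D f σ w = f k := by
  unfold traceOk at h
  split at h
  · next A hA =>
    simp only [Bool.and_eq_true, stOk, code2_iff, decide_eq_true_eq] at h
    obtain ⟨⟨⟨hA', hi⟩, hw⟩, hk⟩ := h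
    obtain ⟨-, e⟩ := S.run_spec hd (S.upto_all hd hf) ops ⟨0, 0, 0⟩ A ⟨S.pos, S.pos⟩ hA
    rw [hw] at e
    simp only [stEl, beq_true hi, gEl_zero, mul_one, S.one] at e
    rw [← e, S.mul _ _ hA'.1 hA'.2, beq_true hk]
  · cases h

theorem dgens_bound {D : Data} (h : (D.dgens.all fun l => l.all fun x => code2 D x.1 x.2) = true) :
    ∀ k < D.K, ∀ x ∈ D.dgens.getD k [], x.1 < D.N ∧ x.2 < D.N := by
  intro k _ x hx
  rcases lt_or_ge k D.dgens.length with hk | hk
  · rw [List.getD_eq_getElem _ _ hk] at hx
    exact code2_iff.1 (List.all_eq_true.1 (List.all_eq_true.1 h _ (List.getElem_mem _)) x hx)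
  · rw [List.getD_eq_default _ _ hk] at hx; simp at hx

/-- The system over the whole centraliser. -/
theorem mkSys {z : G} (C : Code z el) (S : Cyc el s) (D : Data) (hN : D.N = 1152) (hm : D.mul = uMul) (hK : D.K = 1)
    (hd : ((D.dgens.getD 0 []).all fun x => psiT.any fun p => Nat.beq p.1 x.2 && Nat.beq p.2 x.1) = true)
    (hr : ∀ w ∈ D.rels, wEval D el (fun _ => s) w = 1) : CodeCert.Sys D el (fun _ => s) where
  pos := by omega
  mul0 := by rw [hm]; decide +kernel
  mul c d hc hd' := by rw [hm]; exact (C.mul c d (hN ▸ hc) (hN ▸ hd')).2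
  lt c d hc hd' := by rw [hm, hN]; exact (C.mul c d (hN ▸ hc) (hN ▸ hd')).1
  inj c d hc hd' := C.inj c d (hN ▸ hc) (hN ▸ hd')
  conj k hk x hx := by
    obtain rfl : k = 0 := by omega
    obtain ⟨p, hp, e⟩ := List.any_eq_true.1 (List.all_eq_true.1 hd x hx)
    simp only [Bool.and_eq_true] at e
    rw [← beq_true e.1, ← beq_true e.2]
    exact (S.tab p hp).symm
  rel := hr

/-- The relations shared by all certificates over the centraliser. -/
def baseRels : List (List Tok) :=
  [tokW [1153, 1153, 1153], tokW relOne, tokW relTwo, tokW [1154, 1153], tokW [1153, 1154], tokW relCom]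

theorem baseRels_eval {z : G} (C : Code z el) (S : Cyc el s) (hcom : evW el s relCom = 1) (D : Data) (hK : D.K = 1) :
    ∀ w ∈ baseRels, wEval D el (fun _ => s) w = 1 := by
  have h := C.one
  intro w hw
  simp only [baseRels, List.mem_cons, List.not_mem_nil, or_false] at hw
  rcases hw with rfl | rfl | rfl | rfl | rfl | rfl <;> rw [tokW_eval D hK S.cube (by decide +kernel)]
  · have := S.cube; simp only [pow_succ, pow_zero, one_mul] at this; simpa [evW, evL, mul_assoc] using this
  · exact S.rel_one
  · exact S.rel_two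
  · simp [evW, evL, sq_eq_inv S.cube]
  · simp [evW, evL, sq_eq_inv S.cube]
  · exact hcom

end CfsgLib.UFourType.Cert
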